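import Groth.Agent.H83.DQCohPush.Main
import Groth.Agent.H83.DQCohEquiv.Main
import Groth.Agent.Lib.InjMod.Hull
import Groth.Agent.Lib.SchColim29.CohPush

/-!
# Injective quasi-coherent modules are acyclic for direct images
-/

set_option autoImplicit false
set_option linter.style.haveILetI false
set_option linter.unusedSectionVars false

universe u

open CategoryTheory CategoryTheory.Limits AlgebraicGeometry

attribute [local instance] HasDerivedCategory.standard

namespace Groth.Agent.H83.DQCohPush

open Groth.Agent.H83.DQCohEquiv Groth.Agent.Lib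

variable {X Y : Scheme.{u}} (f : X ⟶ Y)

theorem injAcyclic_noeth [IsNoetherian X] : InjAcyclic f := fun J hJ k hk => by
  obtain ⟨m, rfl⟩ : ∃ m, k = m + 1 := ⟨k - 1, by omega⟩
  haveI : Injective J.obj := InjMod.injective_obj_of_injective_qcoh J hJ
  exact Functor.isZero_rightDerived_obj_injective_succ _ m J.obj

lemma isAffineHom_of_affine_diag {S : Scheme.{u}} [IsAffine S] (g : S ⟶ Y)
    (hdY : ∀ U V : Y.Opens, IsAffineOpen U → IsAffineOpen V → IsAffineOpen (U ⊓ V)) :
    IsAffineHom g := by
  haveI : IsAffineHom (pullback.diagonal (terminal.from Y)) :=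
    isAffineHom_diagonal_iff.2 fun U _ V₁ _ V₂ _ h₁ h₂ => hdY V₁ V₂ h₁ h₂
  haveI : MorphismProperty.RespectsIso @IsAffineHom :=
    MorphismProperty.IsStableUnderBaseChange.respectsIso
  haveI : (MorphismProperty.diagonal @IsAffineHom).IsStableUnderBaseChange :=
    MorphismProperty.IsStableUnderBaseChange.diagonal
  haveI : MorphismProperty.HasOfPostcompProperty @IsAffineHom
      (MorphismProperty.diagonal @IsAffineHom) :=
    MorphismProperty.hasOfPostcompProperty_iff_le_diagonal.mpr le_rfl
  exact MorphismProperty.of_postcomp (W := @IsAffineHom) (W' := MorphismProperty.diagonal @IsAffineHom)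
    g (terminal.from Y) ‹_› (inferInstanceAs (IsAffineHom (g ≫ terminal.from Y)))

/-- Quasi-coherent modules are acyclic for affine morphisms. -/
lemma isZero_rightDerived_affine {S T : Scheme.{u}} (g : S ⟶ T) [IsAffineHom g] (M : S.Modules)
    [M.IsQuasicoherent] (m : ℕ) :
    IsZero (((Scheme.Modules.pushforward g).rightDerived (m + 1)).obj M) := by
  let R := injectiveResolution M
  haveI := ‹M.IsQuasicoherent›
  let F := (CochainComplex.singleFunctor S.Modules 0).obj M
  have hq := DerivedOX.AffinePush.quasiIso_push g (F := F) R.ι' (fun n => by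
    by_cases hn : n = 0
    · subst hn
      exact (WayOut.Scheme.qc S).prop_of_iso
        (HomologicalComplex.singleObjXSelf (ComplexShape.up ℤ) 0 M).symm ‹M.IsQuasicoherent›
    · exact DerivedOX.RpushQCoh.qc_of_isZero
        (HomologicalComplex.isZero_single_obj_X (ComplexShape.up ℤ) 0 M n hn))
  have hz : IsZero ((((Scheme.Modules.pushforward g).mapHomologicalComplex
      (ComplexShape.up ℤ)).obj F).homology ((m + 1 : ℕ) : ℤ)) :=
    ShortComplex.isZero_homology_of_isZero_X₂ _
      ((Scheme.Modules.pushforward g).map_isZero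
        (HomologicalComplex.isZero_single_obj_X (ComplexShape.up ℤ) 0 M _ (by omega)))
  haveI := hq
  exact hz.of_iso ((asIso (HomologicalComplex.homologyMap
      (((Scheme.Modules.pushforward g).mapHomologicalComplex (ComplexShape.up ℤ)).map R.ι')
      ((m + 1 : ℕ) : ℤ))) ≪≫
    DerCat.RFObj.mapResHomologyIso (Scheme.Modules.pushforward g) R (m + 1)).symm

variable [ObjectProperty.ContainsZero (qcP X)] [ObjectProperty.IsClosedUnderKernels (qcP X)]
  [ObjectProperty.IsClosedUnderCokernels (qcP X)] [ObjectProperty.IsClosedUnderFiniteProducts (qcP X)]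
  [PreservesFiniteLimits (incl X)] [PreservesFiniteColimits (incl X)]

theorem injAcyclic_affineDiag [CompactSpace X]
    (hdX : ∀ U V : X.Opens, IsAffineOpen U → IsAffineOpen V → IsAffineOpen (U ⊓ V))
    (hdY : ∀ U V : Y.Opens, IsAffineOpen U → IsAffineOpen V → IsAffineOpen (U ⊓ V)) :
    InjAcyclic f := by
  classical
  intro J hJ k hk
  obtain ⟨s, hs⟩ := exists_finite_cover X
  haveI : ∀ V : X.affineOpens, IsAffineHom (fs X V) := fun V => isAffineHom_fromSpec X V.2 hdX
  haveI : HasFiniteBiproducts (Qc X) := HasFiniteBiproducts.of_hasFiniteProducts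
  haveI : ∀ V : X.affineOpens, DCoh.HasRpush (fs X V) := fun V =>
    Groth.Agent.Lib.DerivedOX.Exists.hasRpush (fs X V)
  let U : ∀ V : X.affineOpens, ModuleCat.{u} Γ(X, V.1) := fun V => Injective.under ((rF (fs X V)).obj J)
  let c : ∀ V : {V // V ∈ s}, J ⟶ (pF (fs X V.1)).obj (U V.1) := fun V =>
    (rpAdj (fs X V.1)).homEquiv _ _ (Injective.ι ((rF (fs X V.1)).obj J))
  let φ : J ⟶ ⨁ fun V : {V // V ∈ s} => (pF (fs X V.1)).obj (U V.1) := biproduct.lift c
  haveI : Mono φ := by
    refine Preadditive.mono_of_isZero_kernel φ (IsZero.of_full_of_faithful_of_isZero (incl X) _ ?_)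
    refine isZero_of_van X hs fun V hV => ?_
    rw [← opensRange_fs X V]
    refine (isZero_rF_iff (fs X V) _).1 ?_
    have h0 : kernel.ι φ ≫ c ⟨V, hV⟩ = 0 := by
      have : c ⟨V, hV⟩ = φ ≫ biproduct.π _ ⟨V, hV⟩ := (biproduct.lift_π _ _).symm
      rw [this, kernel.condition_assoc, zero_comp]
    have h1 := (Adjunction.homEquiv_naturality_left_symm (rpAdj (fs X V)) (kernel.ι φ) (c ⟨V, hV⟩))
    rw [h0] at h1
    have h2 : (rF (fs X V)).map (kernel.ι φ) ≫ Injective.ι ((rF (fs X V)).obj J) = 0 := by
      simp only [c, Equiv.symm_apply_apply] at h1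
      rw [← h1, Adjunction.homEquiv_counit, Functor.map_zero, zero_comp]
    rw [← zero_comp, cancel_mono] at h2
    haveI : Mono ((rF (fs X V)).map (kernel.ι φ)) := inferInstance
    exact IsZero.of_mono_eq_zero _ h2
  obtain ⟨r, hr⟩ := hJ.factors (𝟙 J) φ
  let H := incl X ⋙ (Scheme.Modules.pushforward f).rightDerived k
  suffices IsZero (H.obj J) from this
  have hz : ∀ V : {V // V ∈ s}, IsZero (H.obj ((pF (fs X V.1)).obj (U V.1))) := fun V => by
    haveI : ((tilde.functor Γ(X, V.1.1)).obj (U V.1)).IsQuasicoherent := inferInstance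
    obtain ⟨e⟩ := SchColim29.CohPush.nonempty_rightDerived_push_iso (fs X V.1) f
      ((tilde.functor Γ(X, V.1.1)).obj (U V.1)) k
    obtain ⟨m, rfl⟩ : ∃ m, k = m + 1 := ⟨k - 1, by omega⟩
    haveI := isAffineHom_of_affine_diag (fs X V.1 ≫ f) hdY
    refine IsZero.of_iso ?_ e
    exact isZero_rightDerived_affine (fs X V.1 ≫ f) _ m
  let F : {V // V ∈ s} → Qc X := fun V => (pF (fs X V.1)).obj (U V.1)
  have htot : ∑ V, biproduct.π F V ≫ biproduct.ι F V = 𝟙 (⨁ F) := by
    refine biproduct.hom_ext _ _ fun W => ?_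
    rw [Preadditive.sum_comp, Category.id_comp, Finset.sum_eq_single W]
    · simp
    · intro V _ hVW
      rw [Category.assoc, biproduct.ι_π_ne F hVW, comp_zero]
    · simp
  have e : φ ≫ r = ∑ V, (φ ≫ biproduct.π F V) ≫ (biproduct.ι F V ≫ r) := by
    calc φ ≫ r = φ ≫ (∑ V, biproduct.π F V ≫ biproduct.ι F V) ≫ r := by
          rw [htot]; exact congrArg (φ ≫ ·) (Category.id_comp r).symm
      _ = _ := by simp only [Preadditive.sum_comp, Preadditive.comp_sum, Category.assoc]
  rw [IsZero.iff_id_eq_zero, ← H.map_id, ← hr, e, Functor.map_sum]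
  refine Finset.sum_eq_zero fun V _ => ?_
  rw [Functor.map_comp, (hz V).eq_of_src (H.map (biproduct.ι F V ≫ r)) 0, comp_zero]

end Groth.Agent.H83.DQCohPush
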