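import Groth.Agent.H83.DQCohPush.Main
import Groth.Agent.Lib.DerivedOX.RestrictKInj
import Groth.Agent.Lib.Cyc.C1K.Pull
import Groth.Agent.Lib.QCoh.Pullback

/-!
# The derived coherator commutes with flat direct image
-/

set_option autoImplicit false
set_option linter.style.haveILetI false
set_option linter.unusedSectionVars false

universe u

open CategoryTheory CategoryTheory.Limits AlgebraicGeometry

attribute [local instance] HasDerivedCategory.standard

namespace Groth.Agent.H83.DQCohPush

open Groth.Agent.H83.DQCohEquiv Groth.Agent.Lib.DerivedOX Groth.Agent.Lib.DerCat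

section General

universe v v' v'' w w' w''

variable {A : Type*} [Category.{v} A] [Abelian A] {B : Type*} [Category.{v'} B] [Abelian B]
  {C : Type*} [Category.{v''} C] [Abelian C]
  (F : A ⥤ B) [F.Additive] (G : B ⥤ C) [G.Additive] (H : A ⥤ C) [H.Additive]

/-- Composition of functors on homotopy categories. -/
noncomputable def mapHCIso (e : F ⋙ G ≅ H) :
    F.mapHomotopyCategory (ComplexShape.up ℤ) ⋙ G.mapHomotopyCategory (ComplexShape.up ℤ) ≅
      H.mapHomotopyCategory (ComplexShape.up ℤ) :=
  Quotient.natIsoLift _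
    (NatIso.ofComponents (fun K => (HomotopyCategory.quotient C (ComplexShape.up ℤ)).mapIso
      (HomologicalComplex.Hom.isoOfComponents (fun n => e.app (K.X n))
        (fun a b _ => (e.hom.naturality (K.d a b)).symm)))
      (fun φ => by
        change (HomotopyCategory.quotient C (ComplexShape.up ℤ)).map _ ≫
            (HomotopyCategory.quotient C (ComplexShape.up ℤ)).map _ =
          (HomotopyCategory.quotient C (ComplexShape.up ℤ)).map _ ≫
            (HomotopyCategory.quotient C (ComplexShape.up ℤ)).map _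
        rw [← Functor.map_comp, ← Functor.map_comp]
        congr 1
        ext n
        exact e.hom.naturality (φ.f n)))

variable [HasDerivedCategory.{w} A] [HasDerivedCategory.{w'} B] [HasDerivedCategory.{w''} C]
  [(DerivedCategory.Qh (C := A)).IsLeftAdjoint] [(DerivedCategory.Qh (C := B)).IsLeftAdjoint]
  [(F.mapHomotopyCategory (ComplexShape.up ℤ) ⋙ DerivedCategory.Qh).HasRightDerivedFunctor
    (HomotopyCategory.quasiIso A (ComplexShape.up ℤ))]
  [(G.mapHomotopyCategory (ComplexShape.up ℤ) ⋙ DerivedCategory.Qh).HasRightDerivedFunctor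
    (HomotopyCategory.quasiIso B (ComplexShape.up ℤ))]

/-- Composition of right derived functors, when the first preserves K-injective complexes. -/
theorem totalRightDerived_comp (hF : ∀ I : CochainComplex A ℤ, I.IsKInjective →
      CochainComplex.IsKInjective ((F.mapHomologicalComplex (ComplexShape.up ℤ)).obj I))
    (e : F ⋙ G ≅ H) :
    Nonempty ((F.mapHomotopyCategory (ComplexShape.up ℤ) ⋙ DerivedCategory.Qh).totalRightDerived
          DerivedCategory.Qh (HomotopyCategory.quasiIso A (ComplexShape.up ℤ)) ⋙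
        (G.mapHomotopyCategory (ComplexShape.up ℤ) ⋙ DerivedCategory.Qh).totalRightDerived
          DerivedCategory.Qh (HomotopyCategory.quasiIso B (ComplexShape.up ℤ)) ≅
      RightDerived.resFunctor A ⋙ H.mapHomotopyCategory (ComplexShape.up ℤ) ⋙ DerivedCategory.Qh) := by
  let S := RightDerived.resFunctor A ⋙ F.mapHomotopyCategory (ComplexShape.up ℤ)
  let α := Functor.whiskerLeft S (RightDerived.resAdj B).unit
  haveI : ∀ d, IsIso (α.app d) := fun d => by
    obtain ⟨I, hI, ⟨i⟩⟩ := RightDerived.exists_resFunctor_obj_iso d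
    haveI := hF I hI
    exact (NatTrans.isIso_app_iff_of_iso (RightDerived.resAdj B).unit
      (((F.mapHomotopyCategoryFactors (ComplexShape.up ℤ)).app I).symm ≪≫
        (F.mapHomotopyCategory (ComplexShape.up ℤ)).mapIso i)).1
      (RightDerived.isIso_unit_of_isKInjective _)
  haveI : IsIso α := NatIso.isIso_of_isIso_app α
  exact ⟨Functor.isoWhiskerRight (RightDerived.totalRightDerivedIso _).symm _ ≪≫
    Functor.isoWhiskerLeft _ (RightDerived.totalRightDerivedIso _).symm ≪≫
    (Functor.associator _ _ _).symm ≪≫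
    Functor.isoWhiskerRight ((Functor.associator _ _ _) ≪≫
      Functor.isoWhiskerLeft _ (Functor.associator _ _ _) ≪≫
      (Functor.associator _ _ _).symm ≪≫ (asIso α).symm ≪≫ Functor.rightUnitor S) _ ≪≫
    Functor.associator _ _ _ ≪≫
    Functor.isoWhiskerLeft _ ((Functor.associator _ _ _).symm ≪≫
      Functor.isoWhiskerRight (mapHCIso F G H e) _)⟩

end General

variable {X Y : Scheme.{u}} (f : X ⟶ Y) [Flat f]
  [ObjectProperty.ContainsZero (qcP X)] [ObjectProperty.IsClosedUnderKernels (qcP X)]
  [ObjectProperty.IsClosedUnderCokernels (qcP X)] [ObjectProperty.IsClosedUnderFiniteProducts (qcP X)]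
  [PreservesFiniteLimits (incl X)] [PreservesFiniteColimits (incl X)]
  [ObjectProperty.ContainsZero (qcP Y)] [ObjectProperty.IsClosedUnderKernels (qcP Y)]
  [ObjectProperty.IsClosedUnderCokernels (qcP Y)] [ObjectProperty.IsClosedUnderFiniteProducts (qcP Y)]
  [PreservesFiniteLimits (incl Y)] [PreservesFiniteColimits (incl Y)]
  (hf : ∀ M : X.Modules, Coh.IsQCoh M → Coh.IsQCoh ((Scheme.Modules.pushforward f).obj M))

/-- Inverse image of quasi-coherent modules. -/
noncomputable abbrev pullQc : Qc Y ⥤ Qc X :=
  ObjectProperty.lift (qcP X) (incl Y ⋙ Scheme.Modules.pullback f) (fun M =>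
    haveI : M.obj.IsQuasicoherent := M.property
    Groth.Agent.Lib.QCoh.Pullback.isQCoh_pullback f M.obj)

/-- The adjunction on quasi-coherent modules. -/
noncomputable def qcAdj : pullQc f ⊣ pQc f hf :=
  (Scheme.Modules.pullbackPushforwardAdjunction f).restrictFullyFaithful
    (ObjectProperty.fullyFaithfulι (qcP Y)) (ObjectProperty.fullyFaithfulι (qcP X))
    (ObjectProperty.liftCompιIso _ _ _).symm (ObjectProperty.liftCompιIso _ _ _).symm

/-- Coherators commute with direct image. -/
noncomputable def coheratorPushIso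
    (QX : X.Modules ⥤ Qc X) (adjX : incl X ⊣ QX) (QY : Y.Modules ⥤ Qc Y) (adjY : incl Y ⊣ QY) :
    Scheme.Modules.pushforward f ⋙ QY ≅ QX ⋙ pQc f hf :=
  (adjY.comp (Scheme.Modules.pullbackPushforwardAdjunction f)).rightAdjointUniq
    (((qcAdj f hf).comp adjX).ofNatIsoLeft (ObjectProperty.liftCompιIso _ _ _))

theorem coherator_push [DCoh.HasRpush f]
    (QX : X.Modules ⥤ Qc X) (adjX : incl X ⊣ QX) (QY : Y.Modules ⥤ Qc Y) (adjY : incl Y ⊣ QY)
    [QX.Additive] [QY.Additive]
    [(QX.mapHomotopyCategory (ComplexShape.up ℤ) ⋙ DerivedCategory.Qh).HasRightDerivedFunctor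
      (HomotopyCategory.quasiIso X.Modules (ComplexShape.up ℤ))]
    [(QY.mapHomotopyCategory (ComplexShape.up ℤ) ⋙ DerivedCategory.Qh).HasRightDerivedFunctor
      (HomotopyCategory.quasiIso Y.Modules (ComplexShape.up ℤ))]
    [(pQc f hf).Additive] [IsGrothendieckAbelian.{u} (Qc X)]
    [((pQc f hf).mapHomotopyCategory (ComplexShape.up ℤ) ⋙ DerivedCategory.Qh).HasRightDerivedFunctor
      (HomotopyCategory.quasiIso (Qc X) (ComplexShape.up ℤ))] :
    Nonempty (DCoh.Rpush f ⋙ (QY.mapHomotopyCategory (ComplexShape.up ℤ) ⋙ DerivedCategory.Qh).totalRightDerived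
        DerivedCategory.Qh (HomotopyCategory.quasiIso Y.Modules (ComplexShape.up ℤ)) ≅
      (QX.mapHomotopyCategory (ComplexShape.up ℤ) ⋙ DerivedCategory.Qh).totalRightDerived
          DerivedCategory.Qh (HomotopyCategory.quasiIso X.Modules (ComplexShape.up ℤ)) ⋙
        ((pQc f hf).mapHomotopyCategory (ComplexShape.up ℤ) ⋙ DerivedCategory.Qh).totalRightDerived
          DerivedCategory.Qh (HomotopyCategory.quasiIso (Qc X) (ComplexShape.up ℤ))) := by
  haveI : IsGrothendieckAbelian.{u} X.Modules :=
    Groth.Agent.Lib.DerivedOX.Grothendieck.isGrothendieckAbelian_sheafOfModules X.ringCatSheaf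
  haveI : IsGrothendieckAbelian.{u} Y.Modules :=
    Groth.Agent.Lib.DerivedOX.Grothendieck.isGrothendieckAbelian_sheafOfModules Y.ringCatSheaf
  haveI : (DerivedCategory.Qh (C := X.Modules)).IsLeftAdjoint :=
    RightDerived.isLeftAdjoint_Qh KInjExists.hasKInjRes
  haveI : (DerivedCategory.Qh (C := Y.Modules)).IsLeftAdjoint :=
    RightDerived.isLeftAdjoint_Qh KInjExists.hasKInjRes
  haveI : (DerivedCategory.Qh (C := Qc X)).IsLeftAdjoint :=
    RightDerived.isLeftAdjoint_Qh KInjExists.hasKInjRes
  let adj := Scheme.Modules.pullbackPushforwardAdjunction f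
  haveI : (Scheme.Modules.pullback f).Additive := adj.left_adjoint_additive
  haveI : PreservesFiniteLimits (Scheme.Modules.pullback f) :=
    Groth.Agent.Lib.Cyc.C1K.Pull.preservesFiniteLimits_pullback f
  haveI : PreservesFiniteColimits (Scheme.Modules.pullback f) := by
    haveI : PreservesColimitsOfSize.{u, u} (Scheme.Modules.pullback f) :=
      adj.leftAdjoint_preservesColimits
    exact PreservesColimitsOfSize.preservesFiniteColimits _
  obtain ⟨a⟩ := totalRightDerived_comp (Scheme.Modules.pushforward f) QY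
    (Scheme.Modules.pushforward f ⋙ QY)
    (fun I hI => RestrictKInj.isKInjective_of_adj adj hI) (Iso.refl _)
  obtain ⟨b⟩ := totalRightDerived_comp QX (pQc f hf) (Scheme.Modules.pushforward f ⋙ QY)
    (fun I hI => RestrictKInj.isKInjective_of_adj adjX hI)
    (coheratorPushIso f hf QX adjX QY adjY).symm
  exact ⟨a ≪≫ b.symm⟩

end Groth.Agent.H83.DQCohPush
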