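import Groth.Agent.H83.DQCohEquiv.Local
import Groth.Agent.H83.QCohGroth.Cat
import Groth.Agent.Lib.DerivedOX.RightDerived
import Groth.Agent.Lib.DerivedOX.RpushAcyclic
import Groth.Agent.Lib.DerivedOX.RestrictRpush
import Groth.Agent.Lib.InjMod.Flasque

/-!
# The derived direct image on `D(QCoh)` is the one of `D(O)`
-/

set_option autoImplicit false
set_option linter.style.haveILetI false
set_option linter.unusedSectionVars false

universe u

open CategoryTheory CategoryTheory.Limits AlgebraicGeometry

attribute [local instance] HasDerivedCategory.standard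

namespace Groth.Agent.H83.DQCohPush

open Groth.Agent.H83.DQCohEquiv Groth.Agent.Lib.DerivedOX Groth.Agent.Lib.DerCat

variable {X Y : Scheme.{u}} (f : X ⟶ Y) [DCoh.HasRpush f]
  [ObjectProperty.ContainsZero (qcP X)] [ObjectProperty.IsClosedUnderKernels (qcP X)]
  [ObjectProperty.IsClosedUnderCokernels (qcP X)] [ObjectProperty.IsClosedUnderFiniteProducts (qcP X)]
  [PreservesFiniteLimits (incl X)] [PreservesFiniteColimits (incl X)]
  [ObjectProperty.ContainsZero (qcP Y)] [ObjectProperty.IsClosedUnderKernels (qcP Y)]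
  [ObjectProperty.IsClosedUnderCokernels (qcP Y)] [ObjectProperty.IsClosedUnderFiniteProducts (qcP Y)]
  [PreservesFiniteLimits (incl Y)] [PreservesFiniteColimits (incl Y)]
  (hf : ∀ M : X.Modules, Coh.IsQCoh M → Coh.IsQCoh ((Scheme.Modules.pushforward f).obj M))

/-- `f_*` on quasi-coherent modules. -/
noncomputable abbrev pQc : Qc X ⥤ Qc Y :=
  ObjectProperty.lift (qcP Y) (incl X ⋙ Scheme.Modules.pushforward f) (fun M => hf M.obj M.property)

variable [(pQc f hf).Additive]

/-- The square of direct images, on homotopy categories. -/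
noncomputable def hcIso :
    (pQc f hf).mapHomotopyCategory (ComplexShape.up ℤ) ⋙ (incl Y).mapHomotopyCategory (ComplexShape.up ℤ) ≅
      (incl X).mapHomotopyCategory (ComplexShape.up ℤ) ⋙
        (Scheme.Modules.pushforward f).mapHomotopyCategory (ComplexShape.up ℤ) :=
  Quotient.natIsoLift _
    (NatIso.ofComponents (fun K => (HomotopyCategory.quotient Y.Modules (ComplexShape.up ℤ)).mapIso
      (HomologicalComplex.Hom.isoOfComponents (fun n => Iso.refl _)
        (fun a b _ => (Category.id_comp _).trans (Category.comp_id _).symm)))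
      (fun φ => by
        change (HomotopyCategory.quotient Y.Modules (ComplexShape.up ℤ)).map _ ≫ _ =
          _ ≫ (HomotopyCategory.quotient Y.Modules (ComplexShape.up ℤ)).map _
        erw [← Functor.map_comp]))

/-- Direct images of complexes, in the derived categories. -/
noncomputable def khIso :
    ((pQc f hf).mapHomotopyCategory (ComplexShape.up ℤ) ⋙ DerivedCategory.Qh) ⋙ ΦX Y ≅
      (incl X).mapHomotopyCategory (ComplexShape.up ℤ) ⋙ DCoh.pushKh f :=
  Functor.associator _ _ _ ≪≫
    Functor.isoWhiskerLeft _ (incl Y).mapDerivedCategoryFactorsh ≪≫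
    (Functor.associator _ _ _).symm ≪≫ Functor.isoWhiskerRight (hcIso f hf) DerivedCategory.Qh ≪≫
    Functor.associator _ _ _

/-- Injective quasi-coherent modules are acyclic for `f_*`. -/
def InjAcyclic : Prop := ∀ J : Qc X, Injective J → ∀ k : ℕ, 0 < k →
  IsZero (((Scheme.Modules.pushforward f).rightDerived k).obj J.obj)

lemma exists_injective_rep [IsGrothendieckAbelian.{u} (Qc X)]
    [(DerivedCategory.Qh (C := Qc X)).IsLeftAdjoint] (d : DerivedCategory (Qc X)) :
    ∃ I : CochainComplex (Qc X) ℤ, (∀ n, Injective (I.X n)) ∧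
      Nonempty ((HomotopyCategory.quotient (Qc X) (.up ℤ)).obj I ≅
        (RightDerived.resFunctor (Qc X)).obj d) := by
  obtain ⟨I, g, hI, hg, -, hinj⟩ :=
    KInjExists.exists_kInjective_resolution (DerivedCategory.Q.objPreimage d)
  haveI := hI
  haveI := hg
  let eI : DerivedCategory.Qh.obj ((HomotopyCategory.quotient (Qc X) (.up ℤ)).obj I) ≅ d :=
    (DerivedCategory.quotientCompQhIso (Qc X)).app I ≪≫
      (asIso (DerivedCategory.Q.map g)).symm ≪≫ DerivedCategory.Q.objObjPreimageIso d
  exact ⟨I, hinj, ⟨(@asIso _ _ _ _ _ (RightDerived.isIso_unit_of_isKInjective (A := Qc X) I)) ≪≫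
    (RightDerived.resFunctor (Qc X)).mapIso eI⟩⟩

theorem nonempty_iso [QuasiCompact f] [QuasiSeparated f] (hac : InjAcyclic f)
    [IsGrothendieckAbelian.{u} (Qc X)]
    [((pQc f hf).mapHomotopyCategory (ComplexShape.up ℤ) ⋙ DerivedCategory.Qh).HasRightDerivedFunctor
      (HomotopyCategory.quasiIso (Qc X) (ComplexShape.up ℤ))] :
    Nonempty (((pQc f hf).mapHomotopyCategory (ComplexShape.up ℤ) ⋙ DerivedCategory.Qh).totalRightDerived
        DerivedCategory.Qh (HomotopyCategory.quasiIso (Qc X) (ComplexShape.up ℤ)) ⋙ ΦX Y ≅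
      ΦX X ⋙ DCoh.Rpush f) := by
  haveI : (DerivedCategory.Qh (C := Qc X)).IsLeftAdjoint :=
    RightDerived.isLeftAdjoint_Qh KInjExists.hasKInjRes
  let F1 := (pQc f hf).mapHomotopyCategory (ComplexShape.up ℤ) ⋙ DerivedCategory.Qh
  let W := HomotopyCategory.quasiIso X.Modules (ComplexShape.up ℤ)
  let η := (DCoh.pushKh f).totalRightDerivedUnit DerivedCategory.Qh W
  let S := RightDerived.resFunctor (Qc X)
  let α := Functor.whiskerLeft (S ⋙ (incl X).mapHomotopyCategory (ComplexShape.up ℤ)) η
  haveI : ∀ d, IsIso (α.app d) := fun d => by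
    obtain ⟨I, hinj, ⟨e⟩⟩ := exists_injective_rep d
    let G := ((incl X).mapHomologicalComplex (ComplexShape.up ℤ)).obj I
    have h1 : IsIso (η.app ((HomotopyCategory.quotient X.Modules (.up ℤ)).obj G)) :=
      RpushAcyclic.isIso_unit_of_acyclic f G (fun n => (I.X n).property)
        (fun n k hk => hac (I.X n) (hinj n) k hk)
    exact (NatTrans.isIso_app_iff_of_iso η
      ((((incl X).mapHomotopyCategoryFactors (ComplexShape.up ℤ)).app I).symm ≪≫
        ((incl X).mapHomotopyCategory (ComplexShape.up ℤ)).mapIso e)).1 h1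
  haveI : IsIso α := NatIso.isIso_of_isIso_app α
  haveI : ∀ d, IsIso ((RightDerived.resAdj (Qc X)).counit.app d) := fun d =>
    RestrictRpush.isIso_resAdj_counit d
  haveI : IsIso (RightDerived.resAdj (Qc X)).counit := NatIso.isIso_of_isIso_app _
  exact ⟨Functor.isoWhiskerRight (RightDerived.totalRightDerivedIso F1).symm (ΦX Y) ≪≫
    Functor.associator _ _ _ ≪≫ Functor.isoWhiskerLeft S (khIso f hf) ≪≫
    (Functor.associator _ _ _).symm ≪≫ asIso α ≪≫
    Functor.associator _ _ _ ≪≫
    Functor.isoWhiskerLeft S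
      ((Functor.associator _ _ _).symm ≪≫
        Functor.isoWhiskerRight (incl X).mapDerivedCategoryFactorsh.symm (DCoh.Rpush f) ≪≫
        Functor.associator _ _ _) ≪≫
    (Functor.associator _ _ _).symm ≪≫
    Functor.isoWhiskerRight (asIso (RightDerived.resAdj (Qc X)).counit) _ ≪≫
    Functor.leftUnitor _⟩

end Groth.Agent.H83.DQCohPush
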